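import Mathlib.RingTheory.Spectrum.Prime.FreeLocus
import Mathlib.LinearAlgebra.ExteriorPower.Basic
import Mathlib.LinearAlgebra.Matrix.Determinant.Basic
import Mathlib.LinearAlgebra.Basis.Exact

/-!
# The annihilator of the top exterior power of `E / (w)`

For a finite projective `R`-module `E` of rank `n` and `w ∈ E`, the annihilator of `⋀^n (E / Rw)` is the ideal
generated by the `φ(w)`, `φ` in the dual of `E`.
-/

set_option autoImplicit false
universe u v w

namespace K822.HypAnn

open Module

section LocalDual

variable {R : Type u} [CommRing R] {E : Type v} [AddCommGroup E] [Module R E]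

/-- A finite projective module has, off the zero locus of some `s` outside a given prime, a basis; written
without denominators. -/
theorem exists_local_dual [Module.Finite R E] [Module.Projective R E] (p : PrimeSpectrum R) (n : ℕ)
    (hn : Module.rankAtStalk E p = n) :
    ∃ s : R, s ∉ p.asIdeal ∧ ∃ (e : Fin n → E) (ξ : Fin n → (E →ₗ[R] R)),
      (∀ i j, ξ i (e j) = if i = j then s else 0) ∧ ∀ x, s • x = ∑ i, ξ i x • e i := by
  classical
  have : Module.FinitePresentation R E := Module.finitePresentation_of_projective R E
  let S := p.asIdeal.primeCompl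
  let R' := Localization.AtPrime p.asIdeal
  let fE := LocalizedModule.mkLinearMap S E
  let fN := LocalizedModule.mkLinearMap S (Fin n → R)
  have hfree : Module.Free R' (LocalizedModule S E) := Module.free_of_flat_of_isLocalRing
  have hfree' : Module.Free R' (LocalizedModule S (Fin n → R)) := Module.free_of_flat_of_isLocalRing
  have h1 : Module.finrank R' (LocalizedModule S E) = n := hn
  have h2 : Module.finrank R' (LocalizedModule S (Fin n → R)) = n := by
    have := congrFun (Module.rankAtStalk_eq_finrank_of_free (R := R) (M := Fin n → R)) p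
    have hnt : Nontrivial R := p.nontrivial
    simpa [Module.rankAtStalk] using this
  let l : LocalizedModule S E ≃ₗ[R'] LocalizedModule S (Fin n → R) :=
    LinearEquiv.ofFinrankEq _ _ (h1.trans h2.symm)
  let l₁ : LocalizedModule S E →ₗ[R] LocalizedModule S (Fin n → R) :=
    l.toLinearMap.restrictScalars R
  let l₂ : LocalizedModule S (Fin n → R) →ₗ[R] LocalizedModule S E :=
    l.symm.toLinearMap.restrictScalars R
  obtain ⟨h, s, hs⟩ := Module.FinitePresentation.exists_lift_of_isLocalizedModule S fN (l₁ ∘ₗ fE)
  obtain ⟨k, t, ht⟩ := Module.FinitePresentation.exists_lift_of_isLocalizedModule S fE (l₂ ∘ₗ fN)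
  have hs' : ∀ x, fN (h x) = s • l₁ (fE x) := fun x => LinearMap.congr_fun hs x
  have ht' : ∀ x, fE (k x) = t • l₂ (fN x) := fun x => LinearMap.congr_fun ht x
  have h12 : ∀ x, l₁ (l₂ x) = x := fun x => l.apply_symm_apply x
  have h21 : ∀ x, l₂ (l₁ x) = x := fun x => l.symm_apply_apply x
  obtain ⟨r, hr⟩ := Module.Finite.exists_smul_of_comp_eq_of_isLocalizedModule S fN
    (h ∘ₗ k) ((s * t) • LinearMap.id) (by
      refine LinearMap.ext fun x => ?_
      simp only [LinearMap.comp_apply, LinearMap.smul_apply, LinearMap.id_apply, hs', ht',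
        Submonoid.smul_def, Submonoid.coe_mul, map_smul, h12, mul_smul])
  obtain ⟨r', hr'⟩ := Module.Finite.exists_smul_of_comp_eq_of_isLocalizedModule S fE
    (k ∘ₗ h) ((s * t) • LinearMap.id) (by
      refine LinearMap.ext fun x => ?_
      simp only [LinearMap.comp_apply, LinearMap.smul_apply, LinearMap.id_apply, hs', ht',
        Submonoid.smul_def, Submonoid.coe_mul, map_smul, h21, mul_smul]
      rw [smul_comm])
  have hr1 : ∀ x, (r : R) • h (k x) = (r : R) • ((s : R) * t) • x := fun x => by
    have := LinearMap.congr_fun hr x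
    simpa [Submonoid.smul_def] using this
  have hr2 : ∀ x, (r' : R) • k (h x) = (r' : R) • ((s : R) * t) • x := fun x => by
    have := LinearMap.congr_fun hr' x
    simpa [Submonoid.smul_def] using this
  refine ⟨(r * r' * (s * t) : S), (r * r' * (s * t) : S).2, fun j => k (Pi.single j 1),
    fun i => ((r : R) * r') • (LinearMap.proj i ∘ₗ h), ?_, ?_⟩
  · intro i j
    simp only [LinearMap.smul_apply, LinearMap.comp_apply, LinearMap.proj_apply]
    have := congrFun (hr1 (Pi.single j 1)) i
    simp only [Pi.smul_apply, smul_eq_mul] at this ⊢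
    rw [mul_comm (r : R) r', mul_assoc, this]
    by_cases hij : i = j
    · subst hij
      simp
      ring
    · rw [Pi.single_eq_of_ne hij]
      simp [hij]
  · intro x
    simp only [LinearMap.smul_apply, LinearMap.comp_apply, LinearMap.proj_apply]
    have e1 : ∑ i, (((r : R) * r') • h x i) • k (Pi.single i 1) = ((r : R) * r') • k (h x) := by
      conv_rhs => rw [← Finset.univ_sum_single (h x), map_sum, Finset.smul_sum]
      refine Finset.sum_congr rfl fun i _ => ?_
      have : (Pi.single i (h x i) : Fin n → R) = h x i • Pi.single i 1 := by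
        rw [← Pi.single_smul, smul_eq_mul, mul_one]
      rw [this, map_smul, smul_assoc]
    rw [e1, mul_smul, hr2]
    simp only [Submonoid.coe_mul, smul_smul]
    congr 1
    ring

end LocalDual

section Ann

variable {R : Type u} [CommRing R] {E : Type v} [AddCommGroup E] [Module R E]
  {F : Type w} [AddCommGroup F] [Module R F]

/-- Relations among generators annihilate the exterior power, up to a power of `s`. -/
theorem mem_annihilator_of_relation {c : ℕ} (m : Fin c → F) (s : R)
    (h : ∀ n : F, s • n ∈ Submodule.span R (Set.range m)) (a : Fin c → R)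
    (ha : ∑ j, a j • m j = 0) (j : Fin c) : s ^ c * a j ∈ Module.annihilator R (⋀[R]^c F) := by
  classical
  have key : ∀ v : Fin c → Fin c, Function.Injective v →
      a j • exteriorPower.ιMulti R c (fun i => m (v i)) = 0 := by
    intro v hv
    obtain ⟨i, rfl⟩ := (Finite.injective_iff_surjective.mp hv) j
    have h1 : a (v i) • m (v i) = - ∑ k ∈ Finset.univ.erase (v i), a k • m k := by
      rw [eq_neg_iff_add_eq_zero,
        Finset.add_sum_erase Finset.univ (fun k => a k • m k) (Finset.mem_univ _), ha]
    have h2 : a (v i) • exteriorPower.ιMulti R c (fun i => m (v i)) =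
        exteriorPower.ιMulti R c (Function.update (fun i => m (v i)) i (a (v i) • m (v i))) := by
      rw [AlternatingMap.map_update_smul, Function.update_eq_self]
    rw [h2, h1]
    have h3 : ∀ w, exteriorPower.ιMulti R c (Function.update (fun i => m (v i)) i w) =
        ((exteriorPower.ιMulti R c).toMultilinearMap.toLinearMap (fun i => m (v i)) i) w :=
      fun _ => rfl
    rw [h3, map_neg, map_sum, neg_eq_zero]
    refine Finset.sum_eq_zero fun k hk => ?_
    rw [map_smul, ← h3]
    obtain ⟨l, rfl⟩ := (Finite.injective_iff_surjective.mp hv) k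
    have hl : l ≠ i := by
      rintro rfl
      simp at hk
    rw [AlternatingMap.map_eq_zero_of_eq _ _ (i := i) (j := l) _ hl.symm, smul_zero]
    rw [Function.update_self, Function.update_of_ne hl]
  let π : (Fin c → R) →ₗ[R] F := Fintype.linearCombination R m
  have hπ : ∀ i, π (Pi.single i 1) = m i := fun i => by simp [π]
  have hzero : (a j • exteriorPower.ιMulti R c (M := F)).compLinearMap π = 0 := by
    refine Module.Basis.ext_alternating (Pi.basisFun R (Fin c)) fun v hv => ?_
    simp only [AlternatingMap.compLinearMap_apply, Pi.basisFun_apply, AlternatingMap.smul_apply,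
      AlternatingMap.zero_apply]
    have := key v hv
    simpa [Function.comp_def, hπ] using this
  rw [Module.mem_annihilator]
  intro w
  have hw : w ∈ Submodule.span R (Set.range (exteriorPower.ιMulti R c (M := F))) := by
    rw [exteriorPower.ιMulti_span]; trivial
  induction hw using Submodule.span_induction with
  | mem x hx =>
    obtain ⟨n, rfl⟩ := hx
    have h4 : ∀ i, ∃ d : Fin c → R, π d = s • n i := by
      intro i
      have := h (n i)
      rw [← Fintype.range_linearCombination] at this
      exact this
    choose d hd using h4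
    have h5 : (s ^ c) • exteriorPower.ιMulti R c n =
        exteriorPower.ιMulti R c (fun i => s • n i) := by
      have := (exteriorPower.ιMulti R c (M := F)).toMultilinearMap.map_smul_univ (fun _ => s) n
      rw [Finset.prod_const, Finset.card_univ, Fintype.card_fin] at this
      exact this.symm
    rw [mul_comm, mul_smul, h5]
    have h6 := congrArg (fun f => f d) hzero
    simp only [AlternatingMap.compLinearMap_apply, AlternatingMap.smul_apply,
      AlternatingMap.zero_apply] at h6
    rw [← h6]
    congr 2
    ext i
    exact (hd i).symm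
  | zero => rw [smul_zero]
  | add x y _ _ hx hy => rw [smul_add, hx, hy, add_zero]
  | smul b x _ hx => rw [smul_comm, hx, smul_zero]

/-- The linear map `E → R^n` given by a family of linear forms, modulo an ideal containing their values
at `w`, induces a map on `F = E / (w)`. -/
theorem pow_mul_mem_of_mem_annihilator {n : ℕ} (q : E →ₗ[R] F) (hq : Function.Surjective q) (w : E)
    (hker : LinearMap.ker q = Submodule.span R {w}) (s : R) (e : Fin n → E)
    (ξ : Fin n → (E →ₗ[R] R)) (hξ : ∀ i j, ξ i (e j) = if i = j then s else 0) (J : Ideal R)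
    (hJ : ∀ i, ξ i w ∈ J) (r : R) (hr : r ∈ Module.annihilator R (⋀[R]^n F)) :
    s ^ n * r ∈ J := by
  classical
  -- the map `F → (R/J)^n`
  let g₀ : E →ₗ[R] (Fin n → R ⧸ J) :=
    LinearMap.pi fun i => (Ideal.Quotient.mkₐ R J).toLinearMap ∘ₗ ξ i
  have hg₀ : LinearMap.ker q ≤ LinearMap.ker g₀ := by
    rw [hker, Submodule.span_singleton_le_iff_mem, LinearMap.mem_ker]
    ext i
    simp only [g₀, LinearMap.pi_apply, LinearMap.comp_apply, AlgHom.toLinearMap_apply,
      Ideal.Quotient.mkₐ_eq_mk, Pi.zero_apply]
    exact Ideal.Quotient.eq_zero_iff_mem.mpr (hJ i)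
  let g : F →ₗ[R] (Fin n → R ⧸ J) := (LinearMap.ker q).liftQ g₀ hg₀ ∘ₗ
    (q.quotKerEquivOfSurjective hq).symm.toLinearMap
  have hg : ∀ x, g (q x) = g₀ x := by
    intro x
    have : (q.quotKerEquivOfSurjective hq).symm (q x) = Submodule.Quotient.mk x := by
      rw [LinearEquiv.symm_apply_eq]; rfl
    simp only [g, LinearMap.comp_apply, LinearEquiv.coe_coe, this]
    exact Submodule.liftQ_apply _ _ _
  -- the determinant
  let D : (Fin n → R ⧸ J) [⋀^Fin n]→ₗ[R] (R ⧸ J) :=
    { (Matrix.detRowAlternating (n := Fin n) (R := R ⧸ J)).toMultilinearMap.restrictScalars R with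
      map_eq_zero_of_eq' := fun v i j h hij =>
        (Matrix.detRowAlternating (n := Fin n) (R := R ⧸ J)).map_eq_zero_of_eq v h hij }
  let A : F [⋀^Fin n]→ₗ[R] (R ⧸ J) := D.compLinearMap g
  let L : ⋀[R]^n F →ₗ[R] (R ⧸ J) := exteriorPower.alternatingMapLinearEquiv A
  have hL : L (exteriorPower.ιMulti R n fun j => q (e j)) = Ideal.Quotient.mk J (s ^ n) := by
    rw [exteriorPower.alternatingMapLinearEquiv_apply_ιMulti]
    have : A (fun j => q (e j)) = Matrix.det (Matrix.of fun j i => Ideal.Quotient.mk J (ξ i (e j))) := by
      simp only [A, AlternatingMap.compLinearMap_apply, hg]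
      rfl
    rw [this]
    have h2 : (Matrix.of fun j i => Ideal.Quotient.mk J (ξ i (e j))) =
        Matrix.diagonal (fun _ : Fin n => Ideal.Quotient.mk J s) := by
      ext j i
      rw [Matrix.of_apply, hξ, Matrix.diagonal_apply]
      by_cases h : i = j
      · simp [h]
      · rw [if_neg h, if_neg (Ne.symm h), map_zero]
    rw [h2, Matrix.det_diagonal, Finset.prod_const, Finset.card_univ, Fintype.card_fin, map_pow]
  have h0 : L (r • exteriorPower.ιMulti R n fun j => q (e j)) = 0 := by
    rw [Module.mem_annihilator.mp hr, map_zero]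
  rw [map_smul, hL, Algebra.smul_def, Ideal.Quotient.algebraMap_eq, ← map_mul,
    Ideal.Quotient.eq_zero_iff_mem] at h0
  rwa [mul_comm]

/-- The annihilator of the top exterior power of `F = E / (w)`, for `E` finite projective of rank `n`. -/
theorem annihilator_eq_span [Module.Finite R E] [Module.Projective R E] {n : ℕ}
    (hn : ∀ p : PrimeSpectrum R, Module.rankAtStalk E p = n)
    (q : E →ₗ[R] F) (hq : Function.Surjective q) (w : E)
    (hker : LinearMap.ker q = Submodule.span R {w}) :
    Module.annihilator R (⋀[R]^n F) = Ideal.span (Set.range fun φ : E →ₗ[R] R => φ w) := by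
  -- an ideal membership can be checked locally
  have key : ∀ (J : Ideal R) (x : R),
      (∀ p : PrimeSpectrum R, ∃ s : R, s ∉ p.asIdeal ∧ s * x ∈ J) → x ∈ J := by
    intro J x h
    have : (J.colon {x} : Ideal R) = ⊤ := by
      by_contra hne
      obtain ⟨m, hm, hle⟩ := Ideal.exists_le_maximal _ hne
      obtain ⟨s, hs, hsx⟩ := h ⟨m, hm.isPrime⟩
      exact hs (hle (Submodule.mem_colon_singleton.mpr (by simpa using hsx)))
    have h1 : (1 : R) ∈ (J.colon {x} : Ideal R) := by rw [this]; trivial
    simpa using Submodule.mem_colon_singleton.mp h1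
  apply le_antisymm
  · intro r hr
    refine key _ r fun p => ?_
    obtain ⟨s, hs, e, ξ, hξ, -⟩ := exists_local_dual p n (hn p)
    refine ⟨s ^ n, fun h => hs (p.2.mem_of_pow_mem n h), ?_⟩
    exact pow_mul_mem_of_mem_annihilator q hq w hker s e ξ hξ _
      (fun i => Ideal.subset_span (Set.mem_range_self (f := fun φ : E →ₗ[R] R => φ w) (ξ i))) r hr
  · rw [Ideal.span_le]
    rintro _ ⟨φ, rfl⟩
    simp only [SetLike.mem_coe]
    refine key _ _ fun p => ?_
    obtain ⟨s, hs, e, ξ, -, hξ⟩ := exists_local_dual p n (hn p)
    refine ⟨s ^ n * s, fun h => ?_, ?_⟩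
    · rcases p.2.mem_or_mem h with h | h
      · exact hs (p.2.mem_of_pow_mem n h)
      · exact hs h
    · have h1 : s * φ w = ∑ i, ξ i w * φ (e i) := by
        have := congrArg φ (hξ w)
        rw [map_smul, map_sum] at this
        simpa using this
      rw [mul_assoc, h1, Finset.mul_sum]
      refine Ideal.sum_mem _ fun i _ => ?_
      rw [← mul_assoc]
      refine Ideal.mul_mem_right _ _ ?_
      refine mem_annihilator_of_relation (fun j => q (e j)) s ?_ (fun j => ξ j w) ?_ i
      · intro x
        obtain ⟨x, rfl⟩ := hq x
        rw [← map_smul, hξ, map_sum]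
        refine Submodule.sum_mem _ fun j _ => ?_
        rw [map_smul]
        exact Submodule.smul_mem _ _ (Submodule.subset_span ⟨j, rfl⟩)
      · have h2 : q (s • w) = 0 := by
          have : w ∈ LinearMap.ker q := by rw [hker]; exact Submodule.mem_span_singleton_self w
          rw [map_smul, LinearMap.mem_ker.mp this, smul_zero]
        rw [hξ, map_sum] at h2
        simpa using h2

end Ann

end K822.HypAnn
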