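import Groth.Agent.LocInt.K822.HypAnn
import Mathlib.LinearAlgebra.TensorProduct.Prod

/-!
# Off the zero locus of `w`, the module `E / (w)` is free of rank one less
-/

set_option autoImplicit false
universe u v w

namespace K822.HypFree

open Module TensorProduct

variable {R : Type u} [CommRing R] {E : Type v} [AddCommGroup E] [Module R E]
  {F : Type w} [AddCommGroup F] [Module R F]

/-- If `φ(w) ∉ p` then `E ≅ F ⊕ R` after localization at `p`, `F = E / (w)`. -/
theorem exists_equiv (q : E →ₗ[R] F) (hq : Function.Surjective q) (w : E)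
    (hker : LinearMap.ker q = Submodule.span R {w}) (φ : E →ₗ[R] R) (p : PrimeSpectrum R)
    (hφ : φ w ∉ p.asIdeal) :
    Nonempty ((Localization.AtPrime p.asIdeal ⊗[R] E) ≃ₗ[Localization.AtPrime p.asIdeal]
      (Localization.AtPrime p.asIdeal ⊗[R] F) × Localization.AtPrime p.asIdeal) := by
  let R' := Localization.AtPrime p.asIdeal
  let s : R := φ w
  let σ₀ : E →ₗ[R] E := s • LinearMap.id - φ.smulRight w
  have hσ₀ : ∀ x, σ₀ x = s • x - φ x • w := fun x => rfl
  have hle : LinearMap.ker q ≤ LinearMap.ker σ₀ := by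
    rw [hker, Submodule.span_singleton_le_iff_mem, LinearMap.mem_ker, hσ₀, sub_self]
  let σ : F →ₗ[R] E := (LinearMap.ker q).liftQ σ₀ hle ∘ₗ
    (q.quotKerEquivOfSurjective hq).symm.toLinearMap
  have hσ : ∀ x, σ (q x) = s • x - φ x • w := by
    intro x
    have : (q.quotKerEquivOfSurjective hq).symm (q x) = Submodule.Quotient.mk x := by
      rw [LinearEquiv.symm_apply_eq]; rfl
    simp only [σ, LinearMap.comp_apply, LinearEquiv.coe_coe, this]
    rw [Submodule.liftQ_apply, hσ₀]
  have hqw : q w = 0 := by
    have : w ∈ LinearMap.ker q := by rw [hker]; exact Submodule.mem_span_singleton_self w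
    exact this
  let f : E →ₗ[R] F × R := q.prod φ
  let g : F × R →ₗ[R] E := σ.coprod (LinearMap.toSpanSingleton R E w)
  have hgf : g ∘ₗ f = s • LinearMap.id := by
    refine LinearMap.ext fun x => ?_
    simp [f, g, hσ]
  have hfg : f ∘ₗ g = s • LinearMap.id := by
    refine LinearMap.ext fun x => ?_
    obtain ⟨y, r⟩ := x
    obtain ⟨x, rfl⟩ := hq y
    ext
    · simp [f, g, hσ, hqw]
    · have h1 : (f (g (q x, r))).2 = φ (σ (q x) + r • w) := by
        simp [f, g]
      simp only [LinearMap.comp_apply, h1, hσ, map_add, map_sub, map_smul, smul_eq_mul,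
        LinearMap.smul_apply, LinearMap.id_apply, Prod.smul_snd]
      change s * φ x - φ x * s + r * s = s * r
      ring
  have hs : IsUnit (algebraMap R R' s) := IsLocalization.map_units R' (⟨s, hφ⟩ : p.asIdeal.primeCompl)
  obtain ⟨c, hc⟩ := hs.exists_right_inv
  have hgf' : (g.baseChange R') ∘ₗ (f.baseChange R') = (algebraMap R R' s) • LinearMap.id := by
    rw [← LinearMap.baseChange_comp, hgf, LinearMap.baseChange_smul, LinearMap.baseChange_id]
    refine LinearMap.ext fun x => ?_
    simp only [LinearMap.smul_apply, LinearMap.id_apply, algebraMap_smul]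
  have hfg' : (f.baseChange R') ∘ₗ (g.baseChange R') = (algebraMap R R' s) • LinearMap.id := by
    rw [← LinearMap.baseChange_comp, hfg, LinearMap.baseChange_smul, LinearMap.baseChange_id]
    refine LinearMap.ext fun x => ?_
    simp only [LinearMap.smul_apply, LinearMap.id_apply, algebraMap_smul]
  let e : (R' ⊗[R] E) ≃ₗ[R'] (R' ⊗[R] (F × R)) :=
    LinearEquiv.ofLinearMap (f.baseChange R') (c • g.baseChange R')
      (by rw [LinearMap.comp_smul, hfg', smul_smul, mul_comm, hc, one_smul])
      (by rw [LinearMap.smul_comp, hgf', smul_smul, mul_comm, hc, one_smul])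
  exact ⟨e ≪≫ₗ TensorProduct.prodRight R R' R' F R ≪≫ₗ
    LinearEquiv.prodCongr (LinearEquiv.refl _ _) (AlgebraTensorModule.rid R R' R')⟩

theorem freeLocus_and_rank [Module.Finite R E] [Module.Projective R E]
    (q : E →ₗ[R] F) (hq : Function.Surjective q) (w : E)
    (hker : LinearMap.ker q = Submodule.span R {w}) (φ : E →ₗ[R] R) (p : PrimeSpectrum R)
    (hφ : φ w ∉ p.asIdeal) :
    p ∈ Module.freeLocus R F ∧ Module.rankAtStalk F p + 1 = Module.rankAtStalk E p := by
  obtain ⟨e⟩ := exists_equiv q hq w hker φ p hφ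
  let R' := Localization.AtPrime p.asIdeal
  have hF : Module.Finite R F := Module.Finite.of_surjective q hq
  have hproj : Module.Projective R' ((R' ⊗[R] F) × R') := Module.Projective.of_equiv e
  have hproj' : Module.Projective R' (R' ⊗[R] F) :=
    Module.Projective.of_split (LinearMap.inl R' (R' ⊗[R] F) R') (LinearMap.fst R' (R' ⊗[R] F) R')
      (LinearMap.ext fun x => rfl)
  have hfree : Module.Free R' (R' ⊗[R] F) := Module.free_of_flat_of_isLocalRing
  refine ⟨(Module.mem_freeLocus_iff_tensor p R').mpr hfree, ?_⟩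
  rw [Module.rankAtStalk_eq_finrank_tensorProduct, Module.rankAtStalk_eq_finrank_tensorProduct,
    e.finrank_eq, Module.finrank_prod, Module.finrank_self]

end K822.HypFree
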