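import Groth.Agent.LocInt.K822.HypFree
import Mathlib.RingTheory.Smooth.Basic
import Mathlib.RingTheory.Etale.Kaehler
import Mathlib.RingTheory.Smooth.Locus

/-!
# Kähler differentials of a hypersurface `R = B / g`
-/

set_option autoImplicit false
universe u

namespace K822.HypKaehler

open Module TensorProduct KaehlerDifferential

variable (A B R : Type u) [CommRing A] [CommRing B] [CommRing R]
    [Algebra A B] [Algebra B R] [Algebra A R] [IsScalarTower A B R]

/-- The kernel of `R ⊗ Ω_{B/A} → Ω_{R/A}` is generated by `1 ⊗ dg`. -/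
theorem ker_mapBaseChange (g : B) (hsurj : Function.Surjective (algebraMap B R))
    (hker : RingHom.ker (algebraMap B R) = Ideal.span {g}) :
    LinearMap.ker (KaehlerDifferential.mapBaseChange A B R) =
      Submodule.span R {(1 : R) ⊗ₜ[B] (KaehlerDifferential.D A B g)} := by
  have hg : algebraMap B R g = 0 := by
    have : g ∈ RingHom.ker (algebraMap B R) := by rw [hker]; exact Ideal.mem_span_singleton_self g
    exact this
  apply le_antisymm
  · intro x hx
    obtain ⟨y, rfl⟩ := (exact_kerCotangentToTensor_mapBaseChange A B R hsurj x).mp hx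
    obtain ⟨y, rfl⟩ := Ideal.toCotangent_surjective _ y
    obtain ⟨b, hb⟩ := Ideal.mem_span_singleton'.mp (hker ▸ y.2 : (y : B) ∈ Ideal.span {g})
    rw [kerCotangentToTensor_toCotangent, ← hb, Derivation.leibniz, TensorProduct.tmul_add,
      ← TensorProduct.smul_tmul b (1 : R), ← TensorProduct.smul_tmul g (1 : R)]
    have h1 : g • (1 : R) = 0 := by rw [Algebra.smul_def, hg, zero_mul]
    rw [h1, TensorProduct.zero_tmul, add_zero]
    have h2 : (b • (1 : R)) ⊗ₜ[B] (KaehlerDifferential.D A B g) =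
        (algebraMap B R b) • ((1 : R) ⊗ₜ[B] (KaehlerDifferential.D A B g)) := by
      rw [TensorProduct.smul_tmul', Algebra.smul_def, smul_eq_mul]
    rw [h2]
    exact Submodule.smul_mem _ _ (Submodule.mem_span_singleton_self _)
  · rw [Submodule.span_singleton_le_iff_mem, LinearMap.mem_ker, mapBaseChange_tmul, map_D, hg,
      map_zero, smul_zero]

/-- The ideal generated by the values at `1 ⊗ dg` of the linear forms on `R ⊗ Ω_{B/A}`. -/
theorem span_form_eq [Module.Projective B (Ω[B⁄A])] (g : B)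
    (hsurj : Function.Surjective (algebraMap B R)) :
    Set.range (fun φ : (R ⊗[B] Ω[B⁄A]) →ₗ[R] R => φ ((1 : R) ⊗ₜ[B] (KaehlerDifferential.D A B g))) =
      Set.range fun φ : Ω[B⁄A] →ₗ[B] B => algebraMap B R (φ (KaehlerDifferential.D A B g)) := by
  ext x
  constructor
  · rintro ⟨ψ, rfl⟩
    let ψ' : Ω[B⁄A] →ₗ[B] R := ψ.restrictScalars B ∘ₗ TensorProduct.mk B R (Ω[B⁄A]) 1
    obtain ⟨φ, hφ⟩ := Module.projective_lifting_property (Algebra.linearMap B R) ψ' hsurj
    refine ⟨φ, ?_⟩
    exact LinearMap.congr_fun hφ (KaehlerDifferential.D A B g)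
  · rintro ⟨φ, rfl⟩
    refine ⟨(AlgebraTensorModule.rid B R R).toLinearMap ∘ₗ φ.baseChange R, ?_⟩
    simp [Algebra.smul_def]

theorem rank_baseChange [Module.Projective B (Ω[B⁄A])] [Module.Finite B (Ω[B⁄A])] (n : ℕ)
    (hn : ∀ p : PrimeSpectrum B, Module.rankAtStalk (Ω[B⁄A]) p = n) (p : PrimeSpectrum R) :
    Module.rankAtStalk (R ⊗[B] Ω[B⁄A]) p = n := by
  rw [Module.rankAtStalk_baseChange, hn]

/-- The annihilator of the top exterior power of `Ω_{R/A}`, for a hypersurface `R = B/g`. -/
theorem annihilator_eq [Module.Projective B (Ω[B⁄A])] [Module.Finite B (Ω[B⁄A])] (n : ℕ)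
    (hn : ∀ p : PrimeSpectrum B, Module.rankAtStalk (Ω[B⁄A]) p = n)
    (g : B) (hsurj : Function.Surjective (algebraMap B R))
    (hker : RingHom.ker (algebraMap B R) = Ideal.span {g}) :
    (⋀[R]^n (Ω[R⁄A])).annihilator =
      Ideal.span (Set.range fun φ : Ω[B⁄A] →ₗ[B] B => algebraMap B R (φ (KaehlerDifferential.D A B g))) := by
  rw [← span_form_eq A B R g hsurj]
  exact K822.HypAnn.annihilator_eq_span (rank_baseChange A B R n hn)
    (KaehlerDifferential.mapBaseChange A B R)
    (mapBaseChange_surjective A B R hsurj) _ (ker_mapBaseChange A B R g hsurj hker)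

end K822.HypKaehler
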