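import Groth.Agent.LocInt.K822.HypKaehler
import Mathlib.RingTheory.Smooth.Locus

/-!
# The singular locus of a hypersurface
-/

set_option autoImplicit false
universe u v w

namespace K822.HypSmooth

open Module TensorProduct KaehlerDifferential

section

variable {R : Type u} [CommRing R] {E : Type v} [AddCommGroup E] [Module R E]
  {F : Type w} [AddCommGroup F] [Module R F]

theorem eq_zero_of_unit_smul [IsLocalRing R] (q : E →ₗ[R] F) (hq : Function.Surjective q) (w : E)
    (hqw : q w = 0) (hker : ∀ x, q x = 0 → ∃ d : R, x = d • w)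
    [Module.Projective R F] {n : ℕ} (s : R) (hs : IsUnit s)
    (e : Fin n → E) (c : Fin n → R) (hsw : s • w = ∑ i, c i • e i)
    (hc : ∀ i, c i ∈ IsLocalRing.maximalIdeal R) : w = 0 := by
  obtain ⟨σ, hσ⟩ := Module.projective_lifting_property q LinearMap.id hq
  have hσ' : ∀ y, q (σ y) = y := fun y => LinearMap.congr_fun hσ y
  have hd : ∀ i, ∃ d : R, (e i) - σ (q (e i)) = d • w := by
    intro i
    apply hker
    rw [map_sub, hσ', sub_self]
  choose d hd using hd
  have hτ : s • w = (∑ i, c i * d i) • w := by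
    have h1 : s • w = s • w - σ (q (s • w)) := by
      rw [map_smul, hqw, smul_zero, map_zero, sub_zero]
    rw [h1, hsw, map_sum, map_sum, ← Finset.sum_sub_distrib, Finset.sum_smul]
    refine Finset.sum_congr rfl fun i _ => ?_
    rw [map_smul, map_smul, ← smul_sub, hd, smul_smul]
  have hunit : IsUnit (s - ∑ i, c i * d i) := by
    have h2 : (∑ i, c i * d i) ∈ IsLocalRing.maximalIdeal R :=
      Ideal.sum_mem _ fun i _ => Ideal.mul_mem_right _ _ (hc i)
    by_contra hcon
    have h3 := (IsLocalRing.mem_maximalIdeal _).mpr hcon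
    have h4 := Ideal.add_mem _ h3 h2
    rw [sub_add_cancel] at h4
    exact (IsLocalRing.mem_maximalIdeal _).mp h4 hs
  have : (s - ∑ i, c i * d i) • w = 0 := by
    rw [sub_smul, hτ, sub_self]
  exact (hunit.smul_eq_zero).mp this

theorem tmul_eq_zero (R' : Type u) [CommRing R'] [Algebra R R'] [IsLocalRing R']
    (q : E →ₗ[R] F) (hq : Function.Surjective q) (w : E)
    (hker : LinearMap.ker q = Submodule.span R {w})
    [Module.Projective R' (R' ⊗[R] F)] {n : ℕ} (s : R) (hs : IsUnit (algebraMap R R' s))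
    (e : Fin n → E) (ξ : Fin n → (E →ₗ[R] R)) (hξ : s • w = ∑ i, ξ i w • e i)
    (hw : ∀ i, algebraMap R R' (ξ i w) ∈ IsLocalRing.maximalIdeal R') :
    (1 : R') ⊗ₜ[R] w = 0 := by
  classical
  have hq' : Function.Surjective (q.baseChange R') := LinearMap.lTensor_surjective R' hq
  have hqw : q w = 0 := by
    have : w ∈ LinearMap.ker q := by rw [hker]; exact Submodule.mem_span_singleton_self w
    exact this
  have hexact : Function.Exact (LinearMap.toSpanSingleton R E w) q := by
    rw [LinearMap.exact_iff, hker, LinearMap.range_toSpanSingleton]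
  refine eq_zero_of_unit_smul (q.baseChange R') hq' _ ?_ ?_ (algebraMap R R' s) hs
    (fun i => (1 : R') ⊗ₜ[R] e i) (fun i => algebraMap R R' (ξ i w)) ?_ hw
  · rw [LinearMap.baseChange_tmul, hqw, TensorProduct.tmul_zero]
  · intro x hx
    have h1 := lTensor_exact R' hexact hq
    obtain ⟨y, hy⟩ := (h1 x).mp hx
    refine ⟨TensorProduct.rid R R' y, ?_⟩
    rw [← hy]
    clear hy hx
    induction y using TensorProduct.induction_on with
    | zero => simp
    | tmul a b =>
      simp only [LinearMap.lTensor_tmul, LinearMap.toSpanSingleton_apply, TensorProduct.rid_tmul,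
        TensorProduct.tmul_smul, TensorProduct.smul_tmul', smul_eq_mul, mul_one]
    | add y z hy' hz' =>
      rw [map_add, map_add, add_smul, hy', hz']
  · have : (algebraMap R R' s) • ((1 : R') ⊗ₜ[R] w) = (1 : R') ⊗ₜ[R] (s • w) := by
      rw [algebraMap_smul, TensorProduct.tmul_smul]
    rw [this, hξ, TensorProduct.tmul_sum]
    refine Finset.sum_congr rfl fun i _ => ?_
    rw [algebraMap_smul, TensorProduct.tmul_smul]

/-- If `F = E / (w)` is free at `p` and all linear forms on `E` take values in `p` at `w`, then `w` vanishes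
at `p`. -/
theorem exists_smul_eq_zero [Module.Finite R E] [Module.Projective R E]
    (q : E →ₗ[R] F) (hq : Function.Surjective q) (w : E)
    (hker : LinearMap.ker q = Submodule.span R {w}) (p : PrimeSpectrum R)
    (hw : ∀ φ : E →ₗ[R] R, φ w ∈ p.asIdeal) (hp : p ∈ Module.freeLocus R F) :
    ∃ t : R, t ∉ p.asIdeal ∧ t • w = 0 := by
  have hfree : Module.Free (Localization.AtPrime p.asIdeal) (Localization.AtPrime p.asIdeal ⊗[R] F) :=
    (Module.mem_freeLocus_iff_tensor p _).mp hp
  obtain ⟨n, hn⟩ : ∃ n, Module.rankAtStalk E p = n := ⟨_, rfl⟩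
  obtain ⟨s, hs, e, ξ, -, hξ⟩ := K822.HypAnn.exists_local_dual p n hn
  have hw0 := tmul_eq_zero (Localization.AtPrime p.asIdeal) q hq w hker s
    (IsLocalization.map_units _ (⟨s, hs⟩ : p.asIdeal.primeCompl)) e ξ (hξ w) (fun i => by
      rw [← Localization.AtPrime.map_eq_maximalIdeal]
      exact Ideal.mem_map_of_mem _ (hw _))
  have hloc : IsLocalizedModule p.asIdeal.primeCompl
    (TensorProduct.mk R (Localization.AtPrime p.asIdeal) E 1) := inferInstance
  have := (IsLocalizedModule.eq_zero_iff p.asIdeal.primeCompl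
    (TensorProduct.mk R (Localization.AtPrime p.asIdeal) E 1) (m := w)).mp hw0
  obtain ⟨t, ht⟩ := this
  exact ⟨t, t.2, ht⟩

end

section

variable (A B R : Type u) [CommRing A] [CommRing B] [CommRing R]
    [Algebra A B] [Algebra B R] [Algebra A R] [IsScalarTower A B R]

/-- `B` as an extension of `R`. -/
noncomputable def ext (hsurj : Function.Surjective (algebraMap B R)) : Algebra.Extension.{u} A R where
  Ring := B
  σ := Function.surjInv hsurj
  algebraMap_σ := Function.surjInv_eq hsurj

variable {A B R}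

theorem mem_smoothLocus_iff [Algebra.FinitePresentation A R] [Algebra.FormallySmooth A B]
    (hsurj : Function.Surjective (algebraMap B R)) (p : PrimeSpectrum R) :
    p ∈ Algebra.smoothLocus A R ↔
      (∀ x : (RingHom.ker (algebraMap B R)).Cotangent, kerCotangentToTensor A B R x = 0 →
        ∃ b : B, algebraMap B R b ∉ p.asIdeal ∧ b • x = 0) ∧ p ∈ Module.freeLocus R (Ω[R⁄A]) := by
  rw [Algebra.smoothLocus_eq_compl_support_inter]
  have : Algebra.FormallySmooth A (ext A B R hsurj).Ring := ‹Algebra.FormallySmooth A B›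
  have e := (ext A B R hsurj).equivH1CotangentOfFormallySmooth
  have h1 : p ∈ (Module.support R (Algebra.H1Cotangent A R))ᶜ ↔
      ∀ x : (RingHom.ker (algebraMap B R)).Cotangent, kerCotangentToTensor A B R x = 0 →
        ∃ b : B, algebraMap B R b ∉ p.asIdeal ∧ b • x = 0 := by
    rw [Set.mem_compl_iff, ← e.support_eq, Module.notMem_support_iff']
    constructor
    · intro h x hx
      obtain ⟨x', hx'⟩ : ∃ x' : (ext A B R hsurj).ker.Cotangent, x' = x := ⟨x, rfl⟩
      subst hx'
      obtain ⟨r, hr, hrx⟩ := h ⟨Algebra.Extension.Cotangent.of (P := ext A B R hsurj) x', hx⟩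
      obtain ⟨b, rfl⟩ := hsurj r
      refine ⟨b, hr, ?_⟩
      have h2 := congrArg (fun y => Algebra.Extension.Cotangent.val (Subtype.val y)) hrx
      have h3 := Algebra.Extension.Cotangent.val_smul' (P := ext A B R hsurj) b
        (Algebra.Extension.Cotangent.of (P := ext A B R hsurj) x')
      exact h3.symm.trans h2
    · intro h x
      obtain ⟨b, hb, hbx⟩ := h (Algebra.Extension.Cotangent.val x.1) x.2
      refine ⟨algebraMap B R b, hb, ?_⟩
      apply Subtype.ext
      apply Algebra.Extension.Cotangent.ext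
      have h3 := Algebra.Extension.Cotangent.val_smul' (P := ext A B R hsurj) b x.1
      exact h3.trans hbx
  exact and_congr h1 Iff.rfl

/-- The singular locus of a hypersurface is cut out by the `φ(dg)`. -/
theorem span_le_iff [Algebra.FinitePresentation A B] [Algebra.FormallySmooth A B]
    [Module.Projective B (Ω[B⁄A])] [Module.Finite B (Ω[B⁄A])]
    (g : B) (hg : IsSMulRegular B g) (hsurj : Function.Surjective (algebraMap B R))
    (hker : RingHom.ker (algebraMap B R) = Ideal.span {g}) (p : PrimeSpectrum R) :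
    Ideal.span (Set.range fun φ : Ω[B⁄A] →ₗ[B] B =>
      algebraMap B R (φ (KaehlerDifferential.D A B g))) ≤ p.asIdeal ↔ p ∉ Algebra.smoothLocus A R := by
  have hfp : Algebra.FinitePresentation A R := by
    refine Algebra.FinitePresentation.of_surjective (f := IsScalarTower.toAlgHom A B R) hsurj ?_
    change (RingHom.ker (algebraMap B R)).FG
    rw [hker]
    exact ⟨{g}, by simp⟩
  have hgR : algebraMap B R g = 0 := by
    have : g ∈ RingHom.ker (algebraMap B R) := by rw [hker]; exact Ideal.mem_span_singleton_self g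
    exact this
  have hgmem : g ∈ RingHom.ker (algebraMap B R) := hgR
  have hq := mapBaseChange_surjective A B R hsurj
  have hkerq := K822.HypKaehler.ker_mapBaseChange A B R g hsurj hker
  rw [← K822.HypKaehler.span_form_eq A B R g hsurj, mem_smoothLocus_iff hsurj]
  -- the class of `g`
  set γ : (RingHom.ker (algebraMap B R)).Cotangent := Ideal.toCotangent _ ⟨g, hgmem⟩ with hγ
  have hγw : kerCotangentToTensor A B R γ = 1 ⊗ₜ KaehlerDifferential.D A B g :=
    kerCotangentToTensor_toCotangent A B R _
  have hgen : ∀ x : (RingHom.ker (algebraMap B R)).Cotangent, ∃ b : B, x = b • γ := by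
    intro x
    obtain ⟨y, rfl⟩ := Ideal.toCotangent_surjective _ x
    obtain ⟨b, hb⟩ := Ideal.mem_span_singleton'.mp (hker ▸ y.2 : (y : B) ∈ Ideal.span {g})
    refine ⟨b, ?_⟩
    rw [hγ, ← map_smul]
    congr 1
    exact Subtype.ext hb.symm
  constructor
  · rintro hle ⟨h1, h2⟩
    obtain ⟨t, ht, htw⟩ := exists_smul_eq_zero _ hq _ hkerq p
      (fun φ => hle (Ideal.subset_span ⟨φ, rfl⟩)) h2
    obtain ⟨b, rfl⟩ := hsurj t
    have h3 : kerCotangentToTensor A B R (b • γ) = 0 := by
      rw [map_smul, hγw]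
      rw [algebraMap_smul] at htw
      exact htw
    obtain ⟨c, hc, hcx⟩ := h1 _ h3
    -- `c * b * g ∈ (g^2)`
    rw [smul_smul, hγ, ← map_smul, Ideal.toCotangent_eq_zero] at hcx
    have h4 : (c * b) * g ∈ Ideal.span {g} ^ 2 := by
      rw [← hker]; exact hcx
    rw [Ideal.span_singleton_pow, Ideal.mem_span_singleton'] at h4
    obtain ⟨d, hd⟩ := h4
    have h5 : g • (d * g) = g • (c * b) := by
      simp only [smul_eq_mul]
      rw [mul_comm g (c * b), ← hd]
      ring
    have h6 := hg h5
    have h7 : algebraMap B R c * algebraMap B R b = 0 := by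
      rw [← map_mul, ← h6, map_mul, hgR, mul_zero]
    rcases p.2.mem_or_mem (h7 ▸ p.asIdeal.zero_mem : algebraMap B R c * algebraMap B R b ∈ p.asIdeal)
      with h | h
    · exact hc h
    · exact ht h
  · intro hns
    by_contra hle
    apply hns
    obtain ⟨φ, hφ⟩ : ∃ φ : (R ⊗[B] Ω[B⁄A]) →ₗ[R] R,
        φ ((1 : R) ⊗ₜ[B] (KaehlerDifferential.D A B g)) ∉ p.asIdeal := by
      by_contra hcon
      apply hle
      rw [Ideal.span_le]
      rintro _ ⟨φ, rfl⟩
      by_contra h
      exact hcon ⟨φ, h⟩
    refine ⟨?_, (K822.HypFree.freeLocus_and_rank _ hq _ hkerq φ p hφ).1⟩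
    intro x hx
    obtain ⟨b, rfl⟩ := hgen x
    obtain ⟨c, hc⟩ := hsurj (φ ((1 : R) ⊗ₜ[B] (KaehlerDifferential.D A B g)))
    refine ⟨c, by rw [hc]; exact hφ, ?_⟩
    -- `b w = 0` so `c b ∈ (g)`
    rw [map_smul, hγw] at hx
    have h1 : algebraMap B R (c * b) = 0 := by
      have := congrArg φ hx
      rw [← algebraMap_smul R b, map_smul, ← hc, map_zero, smul_eq_mul, ← map_mul] at this
      rw [mul_comm]; exact this
    have h2 : c * b ∈ RingHom.ker (algebraMap B R) := h1
    rw [hker, Ideal.mem_span_singleton'] at h2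
    obtain ⟨d, hd⟩ := h2
    rw [smul_smul, ← hd, hγ, ← map_smul, Ideal.toCotangent_eq_zero]
    have h3 : (d * g) * g ∈ Ideal.span {g} ^ 2 := by
      rw [Ideal.span_singleton_pow, Ideal.mem_span_singleton']
      exact ⟨d, by ring⟩
    rw [← hker] at h3
    exact h3

end

end K822.HypSmooth
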