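import Groth.Agent.CycA.TorShift
import Groth.Agent.Htor.H254.TorBaseChange
import Groth.Agent.Flat2H.TorDim
import Mathlib.RingTheory.Derivation.Basic
import Mathlib.RingTheory.TensorProduct.IsBaseChangeHom

/-!
# Tor over a hypersurface `R = B / g`

For an `R`-module `N`, a free cover `π : F → N` over `B` with kernel `K` gives an exact sequence of `R`-modules
`0 → N → R ⊗ K → R ⊗ F → N → 0`, with first map `x ↦ 1 ⊗ g x̃`. If `D` is a derivation of `B`, multiplication by
`D(g)` on `N` factors through `N → R ⊗ K`.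
-/

set_option autoImplicit false
universe u

namespace K822.TorHyp

open TensorProduct Groth.Agent.CycA.TorBasic Groth.Agent.CycA.TorShift Groth.Agent.Flat2H.TorDim

section Quot

variable {B R : Type u} [CommRing B] [CommRing R] [Algebra B R] {g : B}

theorem exists_one_tmul (hsurj : Function.Surjective (algebraMap B R)) {K : Type u} [AddCommGroup K]
    [Module B K] (x : R ⊗[B] K) : ∃ k : K, x = (1 : R) ⊗ₜ[B] k := by
  induction x using TensorProduct.induction_on with
  | zero => exact ⟨0, by simp⟩
  | tmul r k =>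
    obtain ⟨b, rfl⟩ := hsurj r
    exact ⟨b • k, by rw [TensorProduct.tmul_smul, TensorProduct.smul_tmul', Algebra.smul_def, mul_one]⟩
  | add x y hx hy =>
    obtain ⟨k, rfl⟩ := hx
    obtain ⟨k', rfl⟩ := hy
    exact ⟨k + k', by rw [TensorProduct.tmul_add]⟩

theorem exact_mul (hker : RingHom.ker (algebraMap B R) = Ideal.span {g}) :
    Function.Exact (LinearMap.toSpanSingleton B B g) (Algebra.linearMap B R) := by
  intro x
  have h1 : (Algebra.linearMap B R) x = 0 ↔ x ∈ RingHom.ker (algebraMap B R) := Iff.rfl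
  rw [h1, hker, Ideal.mem_span_singleton']
  constructor
  · rintro ⟨a, rfl⟩
    exact ⟨a, by simp⟩
  · rintro ⟨a, rfl⟩
    exact ⟨a, by simp⟩

theorem one_tmul_eq_zero_iff (hsurj : Function.Surjective (algebraMap B R))
    (hker : RingHom.ker (algebraMap B R) = Ideal.span {g}) {K : Type u} [AddCommGroup K]
    [Module B K] (k : K) : (1 : R) ⊗ₜ[B] k = 0 ↔ ∃ k' : K, g • k' = k := by
  have h := rTensor_exact K (exact_mul hker) (show Function.Surjective (Algebra.linearMap B R) from hsurj)
  have h1 := h ((1 : B) ⊗ₜ[B] k)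
  rw [LinearMap.rTensor_tmul, Algebra.linearMap_apply, map_one] at h1
  rw [h1]
  constructor
  · rintro ⟨y, hy⟩
    obtain ⟨k', rfl⟩ := (TensorProduct.lid B K).symm.surjective y
    refine ⟨k', ?_⟩
    have h2 := congrArg (TensorProduct.lid B K) hy
    simpa using h2
  · rintro ⟨k', rfl⟩
    refine ⟨(1 : B) ⊗ₜ[B] k', ?_⟩
    rw [LinearMap.rTensor_tmul, LinearMap.toSpanSingleton_apply, one_smul, TensorProduct.tmul_smul,
      TensorProduct.smul_tmul', smul_eq_mul, mul_one]

/-- `Tor_q(K, B/g) = 0` for `q > 0` when `g` is regular on `K`. -/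
theorem subsingleton_tor_quot (hg : IsSMulRegular B g) (hsurj : Function.Surjective (algebraMap B R))
    (hker : RingHom.ker (algebraMap B R) = Ideal.span {g}) {K : Type u} [AddCommGroup K]
    [Module B K] (hK : IsSMulRegular K g) (q : ℕ) (hq : 0 < q) :
    Subsingleton (DRing.Tor B q K R) := by
  obtain ⟨e⟩ := comm (A := B) q K R
  have hinj : Function.Injective (LinearMap.toSpanSingleton B B g) := by
    intro a b h
    simp only [LinearMap.toSpanSingleton_apply, smul_eq_mul] at h
    apply hg
    simp only [smul_eq_mul]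
    rw [mul_comm g a, mul_comm g b, h]
  have key : Subsingleton (DRing.Tor B q R K) := by
    obtain _ | _ | q := q
    · omega
    · obtain ⟨e'⟩ := shiftL_one (LinearMap.toSpanSingleton B B g) (Algebra.linearMap B R) hinj
        (exact_mul hker) hsurj K
      have : Subsingleton (LinearMap.ker (LinearMap.rTensor K (LinearMap.toSpanSingleton B B g))) := by
        rw [Submodule.subsingleton_iff_eq_bot, LinearMap.ker_eq_bot]
        rw [injective_iff_map_eq_zero]
        intro y hy
        obtain ⟨k', rfl⟩ := (TensorProduct.lid B K).symm.surjective y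
        have h2 := congrArg (TensorProduct.lid B K) hy
        simp only [TensorProduct.lid_symm_apply, LinearMap.rTensor_tmul,
          LinearMap.toSpanSingleton_apply, one_smul, TensorProduct.lid_tmul, map_zero] at h2
        have h3 : k' = 0 := hK (by simpa using h2)
        rw [h3, map_zero]
      exact e'.toEquiv.subsingleton
    · obtain ⟨e'⟩ := shiftL (LinearMap.toSpanSingleton B B g) (Algebra.linearMap B R) hinj
        (exact_mul hker) hsurj q K
      have := subsingleton_of_flat_left B q B K
      exact e'.toEquiv.subsingleton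
  exact e.toEquiv.subsingleton

/-- `Tor^R_q(R ⊗ K, M) = 0` if `Tor^B_q(K, M) = 0`, for `g` regular on `K`. -/
theorem subsingleton_tor_baseChange (hg : IsSMulRegular B g)
    (hsurj : Function.Surjective (algebraMap B R))
    (hker : RingHom.ker (algebraMap B R) = Ideal.span {g}) {K : Type u} [AddCommGroup K]
    [Module B K] (hK : IsSMulRegular K g) (M : Type u) [AddCommGroup M] [Module R M] [Module B M]
    [IsScalarTower B R M] (q : ℕ) (h : Subsingleton (DRing.Tor B q K M)) :
    Subsingleton (DRing.Tor R q (R ⊗[B] K) M) := by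
  obtain ⟨φ, hφ⟩ := Groth.Agent.Htor.H254.TorBaseChange.exists_semilinear_bijective R M K
    (fun q hq => subsingleton_tor_quot hg hsurj hker hK q hq) q
  exact (Equiv.ofBijective φ hφ).symm.subsingleton

end Quot

section FourTerm

variable {R : Type u} [CommRing R] {N K' F' : Type u} [AddCommGroup N] [Module R N]
  [AddCommGroup K'] [Module R K'] [AddCommGroup F'] [Module R F']

theorem nonempty_tor_equiv_of_exact (ι : N →ₗ[R] K') (j : K' →ₗ[R] F') (ε : F' →ₗ[R] N)
    (hι : Function.Injective ι) (h₁ : Function.Exact ι j) (h₂ : Function.Exact j ε)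
    (hε : Function.Surjective ε) [Module.Flat R F'] (M : Type u) [AddCommGroup M] [Module R M] (q : ℕ)
    (t₁ : Subsingleton (DRing.Tor R (q + 2) K' M)) (t₂ : Subsingleton (DRing.Tor R (q + 1) K' M)) :
    Nonempty (DRing.Tor R (q + 3) N M ≃ₗ[R] DRing.Tor R (q + 1) N M) := by
  -- `0 → Z → F' → N → 0`
  let Z := LinearMap.range j
  have hex₂ : Function.Exact Z.subtype ε := by
    intro x
    rw [h₂ x]
    simp [Z]
  obtain ⟨e₁⟩ := shiftL Z.subtype ε Z.injective_subtype hex₂ hε (q + 1) M
  -- `0 → N → K' → Z → 0`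
  have hex₁ : Function.Exact ι j.rangeRestrict := by
    intro x
    rw [← h₁ x]
    exact ⟨fun h => congrArg Subtype.val h, fun h => Subtype.ext h⟩
  obtain ⟨δ, h1, h2, h3⟩ := exists_les ι j.rangeRestrict hι hex₁ j.surjective_rangeRestrict M
  have e₂ : DRing.Tor R (q + 2) Z M ≃ₗ[R] DRing.Tor R (q + 1) N M := by
    refine LinearEquiv.ofBijective (δ (q + 1)) ⟨?_, ?_⟩
    · rw [injective_iff_map_eq_zero]
      intro x hx
      obtain ⟨y, rfl⟩ := (h2 (q + 1) x).1 hx
      rw [Subsingleton.elim y 0, map_zero]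
    · intro x
      exact (h3 (q + 1) x).1 (Subsingleton.elim _ _)
  exact ⟨e₁.trans e₂⟩

end FourTerm

section Cover

variable {B R : Type u} [CommRing B] [CommRing R] [Algebra B R] {g : B}
  {N : Type u} [AddCommGroup N] [Module R N] [Module B N] [IsScalarTower B R N]
  {K F : Type u} [AddCommGroup K] [Module B K] [AddCommGroup F] [Module B F]

/-- The data of a short exact sequence `0 → K → F → N → 0` of `B`-modules, with `N` an `R = B / g`-module, and
`g` regular on `B` and on `F`. -/
structure Data (B R : Type u) [CommRing B] [CommRing R] [Algebra B R] (g : B)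
    (N : Type u) [AddCommGroup N] [Module R N] [Module B N]
    (K F : Type u) [AddCommGroup K] [Module B K] [AddCommGroup F] [Module B F] where
  i : K →ₗ[B] F
  π : F →ₗ[B] N
  hi : Function.Injective i
  hiπ : Function.Exact i π
  hπ : Function.Surjective π
  hg : IsSMulRegular B g
  hF : IsSMulRegular F g
  hsurj : Function.Surjective (algebraMap B R)
  hker : RingHom.ker (algebraMap B R) = Ideal.span {g}

namespace Data

variable (D : Data B R g N K F)

include D

theorem hgR : algebraMap B R g = 0 := by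
  have : g ∈ RingHom.ker (algebraMap B R) := by rw [D.hker]; exact Ideal.mem_span_singleton_self g
  exact this

theorem smul_N (x : N) : g • x = 0 := by
  rw [← algebraMap_smul R g x, D.hgR, zero_smul]

theorem hK : IsSMulRegular K g := by
  intro x y h
  apply D.hi
  apply D.hF
  change g • D.i x = g • D.i y
  rw [← map_smul, ← map_smul]
  exact congrArg D.i h

theorem exists_mulg (f : F) : ∃ k : K, D.i k = g • f :=
  (D.hiπ (g • f)).mp (by rw [map_smul]; exact D.smul_N _)

/-- `f ↦ g f`, from `F` to `K`. -/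
noncomputable def mulg : F →ₗ[B] K where
  toFun f := (D.exists_mulg f).choose
  map_add' f f' := by
    apply D.hi
    rw [map_add, (D.exists_mulg _).choose_spec, (D.exists_mulg _).choose_spec,
      (D.exists_mulg _).choose_spec, smul_add]
  map_smul' b f := by
    apply D.hi
    rw [RingHom.id_apply, map_smul, (D.exists_mulg _).choose_spec, (D.exists_mulg _).choose_spec,
      smul_comm]

theorem i_mulg (f : F) : D.i (D.mulg f) = g • f := (D.exists_mulg f).choose_spec

theorem mulg_i (k : K) : D.mulg (D.i k) = g • k := by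
  apply D.hi
  rw [i_mulg, map_smul]

/-- `f ↦ 1 ⊗ g f`. -/
noncomputable def iota₀ : F →ₗ[B] R ⊗[B] K := TensorProduct.mk B R K 1 ∘ₗ D.mulg

theorem iota₀_apply (f : F) : D.iota₀ f = (1 : R) ⊗ₜ[B] (D.mulg f) := rfl

theorem ker_iota₀ : LinearMap.ker D.iota₀ = LinearMap.ker D.π := by
  ext f
  rw [LinearMap.mem_ker, iota₀_apply, one_tmul_eq_zero_iff D.hsurj D.hker, LinearMap.mem_ker,
    D.hiπ f]
  constructor
  · rintro ⟨k, hk⟩
    refine ⟨k, D.hF ?_⟩
    change g • D.i k = g • f
    rw [← map_smul, hk, i_mulg]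
  · rintro ⟨k, rfl⟩
    exact ⟨k, (D.mulg_i k).symm⟩

/-- The map `N → R ⊗ K`. -/
noncomputable def iota : N →ₗ[R] R ⊗[B] K :=
  LinearMap.extendScalarsOfSurjective D.hsurj
    ((LinearMap.ker D.π).liftQ D.iota₀ D.ker_iota₀.ge ∘ₗ
      (D.π.quotKerEquivOfSurjective D.hπ).symm.toLinearMap)

theorem iota_π (f : F) : D.iota (D.π f) = (1 : R) ⊗ₜ[B] (D.mulg f) := by
  have h1 : (D.π.quotKerEquivOfSurjective D.hπ).symm (D.π f) = Submodule.Quotient.mk f := by
    rw [LinearEquiv.symm_apply_eq]; rfl
  have h2 : D.iota (D.π f) = (LinearMap.ker D.π).liftQ D.iota₀ D.ker_iota₀.ge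
    ((D.π.quotKerEquivOfSurjective D.hπ).symm (D.π f)) := rfl
  rw [h2, h1]
  rfl

theorem iota_injective : Function.Injective D.iota := by
  rw [injective_iff_map_eq_zero]
  intro x hx
  obtain ⟨f, rfl⟩ := D.hπ x
  rw [iota_π, ← iota₀_apply] at hx
  have : f ∈ LinearMap.ker D.iota₀ := hx
  rw [ker_iota₀] at this
  exact this

/-- The map `R ⊗ K → R ⊗ F`. -/
noncomputable def jay : R ⊗[B] K →ₗ[R] R ⊗[B] F := D.i.baseChange R

theorem jay_tmul (k : K) : D.jay ((1 : R) ⊗ₜ[B] k) = (1 : R) ⊗ₜ[B] (D.i k) := rfl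

theorem exact_iota_jay : Function.Exact D.iota D.jay := by
  intro x
  obtain ⟨k, rfl⟩ := exists_one_tmul D.hsurj x
  rw [jay_tmul, one_tmul_eq_zero_iff D.hsurj D.hker]
  constructor
  · rintro ⟨f, hf⟩
    refine ⟨D.π f, ?_⟩
    rw [iota_π]
    congr 1
    apply D.hi
    rw [i_mulg, hf]
  · rintro ⟨y, hy⟩
    obtain ⟨f, rfl⟩ := D.hπ y
    rw [iota_π, ← sub_eq_zero, ← TensorProduct.tmul_sub, one_tmul_eq_zero_iff D.hsurj D.hker] at hy
    obtain ⟨k', hk'⟩ := hy
    refine ⟨f - D.i k', ?_⟩
    have := congrArg D.i hk'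
    rw [map_smul, map_sub, i_mulg] at this
    rw [smul_sub, this, sub_sub_cancel]

/-- The map `R ⊗ F → N`. -/
noncomputable def eps : R ⊗[B] F →ₗ[R] N := D.π.liftBaseChange R

theorem eps_tmul (f : F) : D.eps ((1 : R) ⊗ₜ[B] f) = D.π f := by
  simp [eps]

theorem eps_surjective : Function.Surjective D.eps := by
  intro x
  obtain ⟨f, rfl⟩ := D.hπ x
  exact ⟨_, D.eps_tmul f⟩

theorem exact_jay_eps : Function.Exact D.jay D.eps := by
  intro x
  obtain ⟨f, rfl⟩ := exists_one_tmul D.hsurj x
  rw [eps_tmul]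
  constructor
  · intro hf
    obtain ⟨k, rfl⟩ := (D.hiπ f).mp hf
    exact ⟨(1 : R) ⊗ₜ[B] k, rfl⟩
  · rintro ⟨y, hy⟩
    obtain ⟨k, rfl⟩ := exists_one_tmul D.hsurj y
    have := congrArg D.eps hy
    rw [eps_tmul] at this
    rw [← this, jay_tmul, eps_tmul]
    exact D.hiπ.apply_apply_eq_zero k

/-- Multiplication by `d(g)` on `N` factors through `N → R ⊗ K`, for `d` a derivation acting on `F`. -/
theorem exists_factor (d : B → B) (δ : F →+ F) (hδ : ∀ (b : B) (f : F), δ (b • f) = b • δ f + d b • f) :
    ∃ ψ : R ⊗[B] K →ₗ[R] N, ψ ∘ₗ D.iota = (algebraMap B R (d g)) • LinearMap.id := by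
  let ψ₀ : K →ₗ[B] N :=
    { toFun := fun k => D.π (δ (D.i k))
      map_add' := fun k k' => by rw [map_add, map_add, map_add]
      map_smul' := fun b k => by
        rw [map_smul, hδ, map_add, map_smul, map_smul, D.hiπ.apply_apply_eq_zero, smul_zero, add_zero,
          RingHom.id_apply] }
  refine ⟨ψ₀.liftBaseChange R, LinearMap.ext fun x => ?_⟩
  obtain ⟨f, rfl⟩ := D.hπ x
  rw [LinearMap.comp_apply, iota_π, LinearMap.liftBaseChange_tmul, one_smul, LinearMap.smul_apply,
    LinearMap.id_apply, algebraMap_smul]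
  change D.π (δ (D.i (D.mulg f))) = _
  rw [i_mulg, hδ, map_add, map_smul, map_smul, D.smul_N, zero_add]

variable {M : Type u} [AddCommGroup M] [Module R M] [Module B M] [IsScalarTower B R M]

/-- vanishing of `Tor^R(R ⊗ K, M)`. -/
theorem subsingleton_tor [Module.Flat B F] (q : ℕ) (h : Subsingleton (DRing.Tor B (q + 2) N M)) :
    Subsingleton (DRing.Tor R (q + 1) (R ⊗[B] K) M) := by
  apply subsingleton_tor_baseChange D.hg D.hsurj D.hker D.hK
  obtain ⟨e⟩ := shiftL D.i D.π D.hi D.hiπ D.hπ q M
  exact e.symm.toEquiv.subsingleton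

/-- Periodicity of `Tor` over a hypersurface. -/
theorem nonempty_tor_equiv [Module.Flat B F] (q : ℕ)
    (h₁ : Subsingleton (DRing.Tor B (q + 3) N M)) (h₂ : Subsingleton (DRing.Tor B (q + 2) N M)) :
    Nonempty (DRing.Tor R (q + 3) N M ≃ₗ[R] DRing.Tor R (q + 1) N M) := by
  have t₁ := D.subsingleton_tor (M := M) (q + 1) h₁
  have t₂ := D.subsingleton_tor (M := M) q h₂
  exact nonempty_tor_equiv_of_exact D.iota D.jay D.eps D.iota_injective D.exact_iota_jay
    D.exact_jay_eps D.eps_surjective M q t₁ t₂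

/-- `d(g)` annihilates `Tor^R(N, M)`. -/
theorem smul_tor_eq_zero [Module.Flat B F] (q : ℕ) (h : Subsingleton (DRing.Tor B (q + 2) N M))
    (d : B → B) (δ : F →+ F) (hδ : ∀ (b : B) (f : F), δ (b • f) = b • δ f + d b • f)
    (x : DRing.Tor R (q + 1) N M) : algebraMap B R (d g) • x = 0 := by
  have t := D.subsingleton_tor (M := M) q h
  obtain ⟨ψ, hψ⟩ := D.exists_factor d δ hδ
  have h1 : mapL ((algebraMap B R (d g)) • (LinearMap.id : N →ₗ[R] N)) (q + 1) M x =
      algebraMap B R (d g) • x := by
    rw [mapL_smul, mapL_id]; rfl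
  rw [← h1, ← hψ, mapL_comp, LinearMap.comp_apply, Subsingleton.elim (mapL D.iota (q + 1) M x) 0,
    map_zero]

end Data

end Cover

section Free

variable (B R : Type u) [CommRing B] [CommRing R] [Algebra B R] (g : B)
  (N : Type u) [AddCommGroup N] [Module R N] [Module B N] [IsScalarTower B R N]

/-- The free cover. -/
noncomputable def freeData (hg : IsSMulRegular B g) (hsurj : Function.Surjective (algebraMap B R))
    (hker : RingHom.ker (algebraMap B R) = Ideal.span {g}) :
    Data B R g N (LinearMap.ker (Finsupp.linearCombination B (id : N → N))) (N →₀ B) where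
  i := Submodule.subtype _
  π := Finsupp.linearCombination B (id : N → N)
  hi := Submodule.subtype_injective _
  hiπ := LinearMap.exact_subtype_ker_map _
  hπ := Finsupp.linearCombination_id_surjective B N
  hg := hg
  hF := by
    intro x y h
    ext n
    exact hg (DFunLike.congr_fun h n)
  hsurj := hsurj
  hker := hker

variable {B R g N}
variable (hg : IsSMulRegular B g) (hsurj : Function.Surjective (algebraMap B R))
    (hker : RingHom.ker (algebraMap B R) = Ideal.span {g})
    (M : Type u) [AddCommGroup M] [Module R M] [Module B M] [IsScalarTower B R M]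

include hg hsurj hker

/-- A flat `B`-module killed by `g` vanishes. -/
theorem subsingleton_of_flat (h : DRing.HasTorDimLE B 0 M) : Subsingleton M := by
  rw [hasTorDimLE_zero_iff] at h
  have h1 : IsSMulRegular M g := by
    have hinj : Function.Injective (LinearMap.toSpanSingleton B B g) := by
      intro a b h
      simp only [LinearMap.toSpanSingleton_apply, smul_eq_mul] at h
      apply hg
      simp only [smul_eq_mul]
      rw [mul_comm g a, mul_comm g b, h]
    have h2 := Module.Flat.lTensor_preserves_injective_linearMap (M := M) _ hinj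
    intro x y hxy
    have h3 : (x ⊗ₜ[B] (1 : B)) = y ⊗ₜ[B] (1 : B) := by
      apply h2
      rw [LinearMap.lTensor_tmul, LinearMap.lTensor_tmul, LinearMap.toSpanSingleton_apply, one_smul]
      have h4 : ∀ z : M, z ⊗ₜ[B] g = (g • z) ⊗ₜ[B] (1 : B) := fun z => by
        rw [TensorProduct.smul_tmul, smul_eq_mul, mul_one]
      rw [h4, h4]
      exact congrArg (fun z => z ⊗ₜ[B] (1 : B)) hxy
    have h5 := congrArg (TensorProduct.rid B M) h3
    simpa using h5
  refine ⟨fun x y => h1 ?_⟩
  have hgR : algebraMap B R g = 0 := by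
    have : g ∈ RingHom.ker (algebraMap B R) := by rw [hker]; exact Ideal.mem_span_singleton_self g
    exact this
  simp only
  rw [← algebraMap_smul R g x, ← algebraMap_smul R g y, hgR, zero_smul, zero_smul]

end Free

end K822.TorHyp
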