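import Groth.Agent.Models.TorPoly
import Mathlib.RingTheory.Unramified.LocalStructure
import Mathlib.RingTheory.Unramified.Finite
import Mathlib.RingTheory.Flat.Localization
import Mathlib.RingTheory.Spectrum.Prime.FreeLocus
import Mathlib.RingTheory.Etale.Kaehler

/-!
# Tor dimension over a smooth algebra

A `B`-module of tor dimension `≤ d` over `A` has tor dimension `≤ d + n` over `B`, if `B` is smooth over `A` with
`Ω_{B/A}` of rank `n`.
-/

set_option autoImplicit false
universe u

namespace K822.TorSmooth

open TensorProduct Groth.Agent.Flat2H.TorDim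

section Etale

variable (C D : Type u) [CommRing C] [CommRing D] [Algebra C D]
  [Algebra.FormallyUnramified C D] [Algebra.EssFiniteType C D] [Module.Flat C D]
  (N : Type u) [AddCommGroup N] [Module D N] [Module C N] [IsScalarTower C D N]

/-- Tor dimension over an algebra which is flat and unramified. -/
theorem hasTorDimLE_of_unramified {d : ℕ} (h : DRing.HasTorDimLE C d N) : DRing.HasTorDimLE D d N := by
  have h1 : DRing.HasTorDimLE D d (D ⊗[C] N) := HasTorDimLE.baseChange D h
  exact HasTorDimLE.of_retract (Algebra.FormallyUnramified.sec C D N) _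
    (Algebra.FormallyUnramified.comp_sec C D N) h1

end Etale

section Local

variable {B : Type u} [CommRing B]

/-- Tor dimension is local on the ring. -/
theorem hasTorDimLE_of_local {d : ℕ} (M : Type u) [AddCommGroup M] [Module B M]
    (h : ∀ p : PrimeSpectrum B, ∃ f : B, f ∉ p.asIdeal ∧
      DRing.HasTorDimLE (Localization.Away f) d (Localization.Away f ⊗[B] M)) :
    DRing.HasTorDimLE B d M := by
  let s : Set B := {f | DRing.HasTorDimLE (Localization.Away f) d (Localization.Away f ⊗[B] M)}
  have hs : Ideal.span s = ⊤ := by
    by_contra hne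
    obtain ⟨m, hm, hle⟩ := Ideal.exists_le_maximal _ hne
    obtain ⟨f, hf, hf'⟩ := h ⟨m, hm.isPrime⟩
    exact hf (hle (Ideal.subset_span hf'))
  have key : ∀ (d : ℕ) (M : Type u) [AddCommGroup M] [Module B M]
      (_ : ∀ f : s, DRing.HasTorDimLE (Localization.Away f.1) d (Localization.Away f.1 ⊗[B] M)),
      DRing.HasTorDimLE B d M := by
    intro d
    induction d with
    | zero =>
      intro M _ _ h
      rw [hasTorDimLE_zero_iff]
      refine Module.flat_of_isLocalized_span B M s hs (fun f => Localization.Away f.1 ⊗[B] M)
        (fun f => TensorProduct.mk B (Localization.Away f.1) M 1) ?_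
      intro f
      have h1 := h f
      rw [hasTorDimLE_zero_iff] at h1
      have h2 : Module.Flat B (Localization.Away f.1) := IsLocalization.flat _ (Submonoid.powers f.1)
      exact Module.Flat.trans B (Localization.Away f.1) _
    | succ d ih =>
      intro M _ _ h
      let g : (M →₀ B) →ₗ[B] M := Finsupp.linearCombination B id
      have hg : Function.Surjective g := Finsupp.linearCombination_id_surjective B M
      rw [hasTorDimLE_succ_iff_ker g hg]
      refine ih _ fun f => ?_
      have h2 : Module.Flat B (Localization.Away f.1) := IsLocalization.flat _ (Submonoid.powers f.1)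
      exact (hasTorDimLE_succ_baseChange_iff (Localization.Away f.1) g hg d).1 (h f)
  exact key d M fun f => f.2

end Local

section Smooth

/-- Tor dimension over an algebra étale over a polynomial ring. -/
theorem hasTorDimLE_of_etale_mvPolynomial (A D : Type u) [CommRing A] [CommRing D] [Algebra A D] {n : ℕ}
    [Algebra (MvPolynomial (Fin n) A) D] [IsScalarTower A (MvPolynomial (Fin n) A) D]
    [Algebra.Etale (MvPolynomial (Fin n) A) D]
    (N : Type u) [AddCommGroup N] [Module D N] [Module A N] [IsScalarTower A D N] {d : ℕ}
    (h : DRing.HasTorDimLE A d N) : DRing.HasTorDimLE D (d + n) N := by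
  let _ : Module (MvPolynomial (Fin n) A) N :=
    Module.compHom N (algebraMap (MvPolynomial (Fin n) A) D)
  have : IsScalarTower (MvPolynomial (Fin n) A) D N := ⟨fun a b m => by
    change (a • b) • m = algebraMap (MvPolynomial (Fin n) A) D a • b • m
    rw [Algebra.smul_def, mul_smul]⟩
  have : IsScalarTower A (MvPolynomial (Fin n) A) N := ⟨fun a b m => by
    change algebraMap (MvPolynomial (Fin n) A) D (a • b) • m =
      a • algebraMap (MvPolynomial (Fin n) A) D b • m
    rw [Algebra.smul_def a b, map_mul, ← IsScalarTower.algebraMap_apply, mul_smul,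
      algebraMap_smul]⟩
  have h1 := Groth.Agent.Models.TorPoly.hasTorDimLE_mvPolynomial_fin n (R := A) (M := N) h
  exact hasTorDimLE_of_unramified (MvPolynomial (Fin n) A) D N h1

theorem rank_eq (A B D : Type u) [CommRing A] [CommRing B] [CommRing D] [Algebra A B] [Algebra A D]
    [Algebra B D] [IsScalarTower A B D] [Algebra.Smooth A B] [Algebra.FormallyEtale B D] [Nontrivial D]
    {n n' : ℕ} (hn : ∀ p : PrimeSpectrum B, Module.rankAtStalk (Ω[B⁄A]) p = n)
    [Algebra (MvPolynomial (Fin n') A) D] [IsScalarTower A (MvPolynomial (Fin n') A) D]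
    [Algebra.Etale (MvPolynomial (Fin n') A) D] : n' = n := by
  have hne : Nonempty (PrimeSpectrum D) := inferInstance
  obtain ⟨p⟩ := hne
  have h1 : Module.rankAtStalk (D ⊗[B] Ω[B⁄A]) p = n := by
    rw [Module.rankAtStalk_baseChange, hn]
  have e₁ := KaehlerDifferential.tensorKaehlerEquivOfFormallyEtale A B D
  have e₂ := KaehlerDifferential.tensorKaehlerEquivOfFormallyEtale A (MvPolynomial (Fin n') A) D
  have hfin : Module.Finite (MvPolynomial (Fin n') A) Ω[MvPolynomial (Fin n') A⁄A] := inferInstance
  have h2 : Module.rankAtStalk (D ⊗[MvPolynomial (Fin n') A] Ω[MvPolynomial (Fin n') A⁄A]) p = n' := by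
    rw [Module.rankAtStalk_baseChange, Module.rankAtStalk_eq_finrank_of_free]
    have hnt : Nontrivial (MvPolynomial (Fin n') A) :=
      (algebraMap (MvPolynomial (Fin n') A) D).domain_nontrivial
    change Module.finrank _ _ = n'
    rw [Module.finrank_eq_card_basis (KaehlerDifferential.mvPolynomialBasis A (Fin n')),
      Fintype.card_fin]
  rw [← h1, ← h2, Module.rankAtStalk_eq_of_equiv e₁, Module.rankAtStalk_eq_of_equiv e₂]

variable (A B : Type u) [CommRing A] [CommRing B] [Algebra A B] [Algebra.Smooth A B]

/-- The tor dimension over a smooth algebra. -/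
theorem hasTorDimLE_of_smooth {n : ℕ}
    (hn : ∀ p : PrimeSpectrum B, Module.rankAtStalk (Ω[B⁄A]) p = n)
    (M : Type u) [AddCommGroup M] [Module B M] [Module A M] [IsScalarTower A B M] {d : ℕ}
    (h : DRing.HasTorDimLE A d M) : DRing.HasTorDimLE B (d + n) M := by
  refine hasTorDimLE_of_local M fun p => ?_
  have : Algebra.IsSmoothAt A p.asIdeal := by
    have := Algebra.smoothLocus_eq_univ (R := A) (A := B)
    have h1 : p ∈ Algebra.smoothLocus A B := by rw [this]; trivial
    exact h1
  obtain ⟨f, hf, n', alg, hst, het⟩ :=
    Algebra.IsSmoothAt.exists_isStandardEtale_mvPolynomial (R := A) (S := B) (p := p.asIdeal)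
  refine ⟨f, hf, ?_⟩
  have hnt : Nontrivial (Localization.Away f) := by
    have hu : IsUnit (algebraMap B (Localization.AtPrime p.asIdeal) f) :=
      IsLocalization.map_units _ (⟨f, hf⟩ : p.asIdeal.primeCompl)
    exact (IsLocalization.Away.lift (S := Localization.Away f) f hu).domain_nontrivial
  have hfe : Algebra.FormallyEtale B (Localization.Away f) :=
    Algebra.FormallyEtale.of_isLocalization (Submonoid.powers f)
  have hflat : Module.Flat B (Localization.Away f) := IsLocalization.flat _ (Submonoid.powers f)
  obtain rfl : n' = n := rank_eq A B (Localization.Away f) hn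
  exact hasTorDimLE_of_etale_mvPolynomial A (Localization.Away f) (Localization.Away f ⊗[B] M)
    (HasTorDimLE.tensor_flat h)

end Smooth

end K822.TorSmooth
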