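import Groth.Agent.LocInt.K822.TorHyp
import Groth.Agent.LocInt.K822.TorSmooth

/-!
# Tor over a hypersurface in a smooth algebra: periodicity and annihilation
-/

set_option autoImplicit false
universe u

namespace K822.TorMain

open TensorProduct Groth.Agent.CycA.TorBasic Groth.Agent.CycA.TorShift Groth.Agent.Flat2H.TorDim
open K822.TorHyp

variable {A B R : Type u} [CommRing A] [CommRing B] [CommRing R]
    [Algebra A B] [Algebra B R] [Algebra A R] [IsScalarTower A B R]

theorem subsingleton_tor_of_subsingleton (q : ℕ) (M N : Type u) [AddCommGroup M] [Module R M]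
    [AddCommGroup N] [Module R N] [Subsingleton M] : Subsingleton (DRing.Tor R q M N) := by
  have h : (LinearMap.id : M →ₗ[R] M) = 0 • LinearMap.id := by
    ext x; exact Subsingleton.elim _ _
  refine ⟨fun x y => ?_⟩
  have key : ∀ x : DRing.Tor R q M N, x = 0 := by
    intro x
    have h1 : mapL (LinearMap.id : M →ₗ[R] M) q N x = x := by rw [mapL_id]; rfl
    have h2 : (LinearMap.id : M →ₗ[R] M) = (0 : R) • LinearMap.id := by
      ext x; exact Subsingleton.elim _ _
    rw [h2, mapL_smul, zero_smul] at h1
    exact h1.symm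
  rw [key x, key y]

variable {g : B} (hg : IsSMulRegular B g) (hsurj : Function.Surjective (algebraMap B R))
    (hker : RingHom.ker (algebraMap B R) = Ideal.span {g})
    {M N : Type u} [AddCommGroup M] [Module R M] [Module B M] [IsScalarTower B R M]
    [AddCommGroup N] [Module R N] [Module B N] [IsScalarTower B R N]

include hg hsurj hker in
theorem nonempty_equiv {d : ℕ} (h : DRing.HasTorDimLE B d M) (q : ℕ) (hq : d + 2 ≤ q) :
    Nonempty (DRing.Tor R q M N ≃ₗ[R] DRing.Tor R (q - 2) M N) := by
  obtain rfl | hd := Nat.eq_zero_or_pos d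
  · have hM := subsingleton_of_flat hg hsurj hker M h
    have h1 := subsingleton_tor_of_subsingleton (R := R) q M N
    have h2 := subsingleton_tor_of_subsingleton (R := R) (q - 2) M N
    exact ⟨LinearEquiv.ofSubsingleton _ _⟩
  · obtain ⟨q, rfl⟩ : ∃ q', q = q' + 3 := ⟨q - 3, by omega⟩
    have hv : ∀ p, d < p → Subsingleton (DRing.Tor B p N M) := fun p hp => by
      obtain ⟨e⟩ := comm (A := B) p N M
      have := h N p hp
      exact e.toEquiv.subsingleton
    obtain ⟨e⟩ := (freeData B R g N hg hsurj hker).nonempty_tor_equiv (M := M) q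
      (hv _ (by omega)) (hv _ (by omega))
    obtain ⟨e₁⟩ := comm (A := R) (q + 3) M N
    obtain ⟨e₂⟩ := comm (A := R) (q + 1) N M
    exact ⟨e₁.trans (e.trans e₂)⟩

include hg hsurj hker in
theorem smul_eq_zero {d : ℕ} (h : DRing.HasTorDimLE B d M) (q : ℕ) (hq : d ≤ q)
    (D : Derivation A B B) (x : DRing.Tor R q M N) : algebraMap B R (D g) • x = 0 := by
  obtain rfl | hd := Nat.eq_zero_or_pos d
  · have hM := subsingleton_of_flat hg hsurj hker M h
    have h1 := subsingleton_tor_of_subsingleton (R := R) q M N
    exact Subsingleton.elim _ _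
  · obtain ⟨q, rfl⟩ : ∃ q', q = q' + 1 := ⟨q - 1, by omega⟩
    have hv : ∀ p, d < p → Subsingleton (DRing.Tor B p N M) := fun p hp => by
      obtain ⟨e⟩ := comm (A := B) p N M
      have := h N p hp
      exact e.toEquiv.subsingleton
    obtain ⟨e⟩ := comm (A := R) (q + 1) M N
    apply e.injective
    rw [map_smul, map_zero]
    refine (freeData B R g N hg hsurj hker).smul_tor_eq_zero (M := M) q (hv _ (by omega)) D
      (Finsupp.mapRange.addMonoidHom (D : B →+ B)) ?_ (e x)
    intro b f
    ext n
    simp [Derivation.leibniz, smul_eq_mul]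
    ring

end K822.TorMain
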